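import Groth.Agent.H27KodV.Main
import Groth.Agent.H10Coh.AffineLeray
import Groth.Agent.H28Pinch.DirectImageTrivial
import Groth.Agent.H17.InvertibleTensor
import Mathlib

/-!
# `H¹(M^p) = 0` and `H⁰(M^p ⊗ Ω) = 0` give `H¹(M) = 0`
-/

set_option autoImplicit false
set_option linter.style.haveILetI false
set_option backward.isDefEq.respectTransparency false
set_option backward.isDefEq.respectTransparency.types false

universe u

noncomputable section

open CategoryTheory CategoryTheory.Limits AlgebraicGeometry TopologicalSpace Opposite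

namespace Groth.Agent.H27KodV

theorem exists_root_Spec {k : Type u} [Field k] [IsAlgClosed k] (p : ℕ) [hp : Fact p.Prime]
    (c : Γ(Spec (CommRingCat.of k), ⊤)) : ∃ c', c' ^ p = c := by
  obtain ⟨a, ha⟩ := IsAlgClosed.exists_pow_nat_eq ((Scheme.ΓSpecIso (CommRingCat.of k)).hom c) hp.out.pos
  refine ⟨(Scheme.ΓSpecIso (CommRingCat.of k)).inv a, ?_⟩
  rw [← map_pow, ha, Iso.hom_inv_id_apply]

theorem subsingleton_H1_of_frobenius {k : Type u} [Field k] [IsAlgClosed k] {p : ℕ} [Fact p.Prime] [CharP k p]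
    {X : Scheme.{u}} (f : X ⟶ Spec (CommRingCat.of k)) [QuasiSeparated f] [IsIntegral X]
    (hN : ∀ x : X, IsIntegrallyClosed (X.presheaf.stalk x)) {M : X.Modules} (hM : PicF.IsInvertible M)
    (h0 : Subsingleton (Coh.HH X (CohB1.tensorMod (CohB1.tensorPow M p) (Omega.sheaf f)) 0))
    (h1 : Subsingleton (Coh.HH X (CohB1.tensorPow M p) 1)) : Subsingleton (Coh.HH X M 1) := by
  haveI : FrobSch.IsCharP X p := FrobSch.IsCharP.of_hom f p
  obtain ⟨e⟩ := H27Perf.Tower.exists_iso_frob (p := p) hM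
  have hE := H28Pinch.isFinLocFree_of_isInvertible hM
  haveI : (FE p M).IsQuasicoherent :=
    H29Fitt.isQCoh_pullback _ _ (H8Props.FinLocFree.isQCoh_of_isFinLocFree M hE)
  haveI : IsAffineHom (FrobSch.frob X p) := ⟨fun _ hU => hU⟩
  have hinj := injective_H1 (p := p) f hN (exists_root_Spec p) hE
    (H10Coh.subsingleton_HH_of_iso (PicGrp.tensorModIso e.symm (Iso.refl _)) 0 h0)
  have h2 : Subsingleton (Coh.HH X (FE p M) 1) := H10Coh.subsingleton_HH_of_iso e.symm 1 h1
  have h3 : Subsingleton (Coh.HH X ((Coh.push (FrobSch.frob X p)).obj (FE p M)) 1) :=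
    (((H10Coh.HHEquiv (FE p M) 1).trans ((H10Coh.affineLerayEquiv (FrobSch.frob X p) (FE p M) 1 ⊤).symm.trans
      (H10Coh.HHEquiv ((Coh.push (FrobSch.frob X p)).obj (FE p M)) 1).symm))).toEquiv.subsingleton_congr.1 h2
  exact @Function.Injective.subsingleton _ _ _ hinj h3

end Groth.Agent.H27KodV
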