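import Groth.Agent.H23Frob.Derivation
import Groth.Agent.H17.OmegaLocal
import Groth.Agent.H8Props.RelFP.PullSections
import Groth.Agent.H27LogTwist.Sections
import Groth.Agent.H28RR.ContractVert
import Groth.Prelude.Def_Frob
import Mathlib

/-!
# Frobenius pull-back of local bases; functions killed by `d` are `p`-th powers
-/

set_option autoImplicit false
set_option linter.style.haveILetI false
set_option backward.isDefEq.respectTransparency false
set_option backward.isDefEq.respectTransparency.types false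

universe u

noncomputable section

open CategoryTheory CategoryTheory.Limits AlgebraicGeometry TopologicalSpace Opposite
open scoped TensorProduct

namespace Groth.Agent.H27KodV

open Groth.Agent.H27LogTwist

theorem exists_pow_eq_of_D_eq_zero (p : ℕ) [Fact p.Prime] {R A : Type u} [CommRing R] [CommRing A] [IsDomain A]
    [IsIntegrallyClosed A] [CharP A p] [Algebra R A] (hR : ∀ c : R, ∃ c', c' ^ p = c) (s : A)
    (hs : KaehlerDifferential.D R A s = 0) : ∃ b : A, b ^ p = s := by
  refine H23Frob.exists_pow_eq_of_normal p s ?_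
  have hc : ∀ c : R, KaehlerDifferential.D ℤ A (algebraMap R A c) = 0 := fun c => by
    obtain ⟨c', rfl⟩ := hR c
    rw [map_pow, Derivation.leibniz_pow, ← Nat.cast_smul_eq_nsmul A, CharP.cast_eq_zero, zero_smul]
  let D₀ : Derivation R A Ω[A⁄ℤ] := Derivation.mk'
    { toFun := KaehlerDifferential.D ℤ A
      map_add' := map_add _
      map_smul' := fun c x => by
        rw [Algebra.smul_def, Derivation.leibniz, hc, smul_zero, add_zero, RingHom.id_apply, algebraMap_smul] }
    fun a b => Derivation.leibniz _ a b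
  have := congrArg D₀.liftKaehlerDifferential hs
  rwa [Derivation.liftKaehlerDifferential_comp_D, map_zero] at this

/-- On a normal scheme over a base with `p`-th roots, `d a = 0` only for `p`-th powers. -/
theorem exists_pow_eq_of_dSect_eq_zero (p : ℕ) [Fact p.Prime] {X S : Scheme.{u}} (f : X ⟶ S) [QuasiSeparated f]
    [IsIntegral X] [FrobSch.IsCharP X p] (hN : ∀ x : X, IsIntegrallyClosed (X.presheaf.stalk x))
    {V₀ : S.Opens} (hV₀ : IsAffineOpen V₀) (hroot : ∀ c : Γ(S, V₀), ∃ c', c' ^ p = c)
    {U : X.Opens} (hU : IsAffineOpen U) (hne : (U : Set X).Nonempty) (h : U ≤ f ⁻¹ᵁ V₀) (a : Γ(X, U))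
    (ha : OmegaSh.dSect f U a = 0) : ∃ b, b ^ p = a := by
  obtain ⟨x, hx⟩ := hne
  haveI : Nonempty (U : Scheme.{u}) := ⟨⟨x, hx⟩⟩
  haveI := H28RR.ContractVert.isIntegrallyClosed_sections hN
    (O := U) (((genericPoint_spec X).specializes trivial).mem_open U.2 hx)
  haveI : CharP Γ(X, U) p :=
    (CharP.charP_iff_prime_eq_zero Fact.out).2 (FrobSch.natCast_eq_zero_app X p U)
  letI : Algebra Γ(S, V₀) Γ(X, U) := (f.appLE V₀ U h).hom.toAlgebra
  haveI := H17.OmegaLocal.isIso_toSect f hU hV₀ h
  refine exists_pow_eq_of_D_eq_zero p hroot a ?_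
  refine (ConcreteCategory.bijective_of_isIso (OmAff.toSect f V₀ U h)).1 ?_
  exact (OmAff.toSect_d f V₀ U h a).trans (ha.trans (map_zero _).symm)

variable {p : ℕ} [Fact p.Prime] {X : Scheme.{u}} [FrobSch.IsCharP X p]

variable (p) in
/-- The unit `E → F_* F^* E` on sections. -/
def fr (E : X.Modules) (U : X.Opens) (m : Γ(E, U)) : Γ((Scheme.Modules.pullback (FrobSch.frob X p)).obj E, U) :=
  OmegaSh.pullSect (FrobSch.frob X p) E U m

theorem fr_zero (E : X.Modules) (U : X.Opens) : fr p E U 0 = 0 := map_zero _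

theorem fr_add (E : X.Modules) (U : X.Opens) (m m' : Γ(E, U)) :
    fr p E U (m + m') = fr p E U m + fr p E U m' := map_add _ _ _

theorem fr_smul (E : X.Modules) (U : X.Opens) (r : Γ(X, U)) (m : Γ(E, U)) :
    fr p E U (r • m) = r ^ p • fr p E U m :=
  OmegaSh.pullSect_smul (FrobSch.frob X p) E U r m

theorem fr_sum (E : X.Modules) (U : X.Opens) {n : ℕ} (c : Fin n → Γ(X, U)) (m : Fin n → Γ(E, U)) :
    fr p E U (∑ j, c j • m j) = ∑ j, c j ^ p • fr p E U (m j) :=
  (map_sum (OmegaSh.pullSect (FrobSch.frob X p) E U).hom _ _).trans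
    (Finset.sum_congr rfl fun j _ => fr_smul E U (c j) (m j))

theorem fr_res (E : X.Modules) {U V : X.Opens} (h : V ≤ U) (m : Γ(E, U)) :
    fr p E V (rm E h m) = rm _ h (fr p E U m) :=
  OmegaSh.pullSect_map (FrobSch.frob X p) E h m

/-- The inverse image of a basis is a basis on affine opens. -/
theorem bijective_pullSect_basis {Y Z : Scheme.{u}} (g : Y ⟶ Z) (E : Z.Modules) (hE : Coh.IsQCoh E)
    {U V : Z.Opens} {W : Y.Opens} (hV : IsAffineOpen V) (hW : IsAffineOpen W) (hWV : W ≤ g ⁻¹ᵁ V) (h : V ≤ U)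
    {n : ℕ} {b : Fin n → Γ(E, U)} (hb : OBas E U b) :
    Function.Bijective fun a : Fin n → Γ(Y, W) =>
      ∑ j, a j • rm _ hWV (OmegaSh.pullSect g E V (rm E h (b j))) := by
  letI := (g.appLE V W hWV).hom.toAlgebra
  letI := Module.compHom Γ((Scheme.Modules.pullback g).obj E, W) (g.appLE V W hWV).hom
  haveI : IsScalarTower Γ(Z, V) Γ(Y, W) Γ((Scheme.Modules.pullback g).obj E, W) :=
    .of_algebraMap_smul fun _ _ => rfl
  have hbc := H8Props.PullSections.isBaseChange_pullLin g E hWV hE hV hW
  let B := (Algebra.TensorProduct.basis Γ(Y, W) (hb.basis h)).map hbc.equiv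
  have hB : ∀ j, B j = rm _ hWV (OmegaSh.pullSect g E V (rm E h (b j))) := fun j => by
    show hbc.equiv (Algebra.TensorProduct.basis Γ(Y, W) (hb.basis h) j) = _
    rw [Algebra.TensorProduct.basis_apply, hbc.equiv_tmul, one_smul, hb.basis_apply]
    rfl
  convert B.equivFun.symm.bijective using 1
  funext a
  rw [Module.Basis.equivFun_symm_apply]
  exact Finset.sum_congr rfl fun j _ => by rw [hB]

/-- On affine opens the images of a basis are a basis. -/
theorem bijective_fr_basis (E : X.Modules) (hE : Coh.IsQCoh E) {U V : X.Opens} (hV : IsAffineOpen V) (h : V ≤ U)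
    {n : ℕ} {b : Fin n → Γ(E, U)} (hb : OBas E U b) :
    Function.Bijective fun a : Fin n → Γ(X, V) => ∑ j, a j • fr p E V (rm E h (b j)) := by
  have := bijective_pullSect_basis (FrobSch.frob X p) E hE hV hV (le_refl V) h hb
  convert this using 1
  funext a
  exact Finset.sum_congr rfl fun j _ => congrArg (a j • ·) (H10Coh.mres_self _ _ _).symm

/-- A sum `∑ η_j ⊗ w_j` with `η` a basis on affine opens vanishes only for `w = 0`. -/
theorem eq_zero_of_sum_tm (M N : X.Modules) {U : X.Opens} {n : ℕ} (η : Fin n → Γ(M, U))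
    (hη : ∀ (V : X.Opens) (h : V ≤ U), IsAffineOpen V →
      Function.Bijective fun a : Fin n → Γ(X, V) => ∑ j, a j • rm M h (η j))
    (w : Fin n → Γ(N, U)) (hw : ∑ j, H11Ample.tm (η j) (w j) = 0) (j₀ : Fin n) : w j₀ = 0 := by
  refine H11Tilde.eq_of_locally _ _ fun x hx => ?_
  haveI : Presheaf.IsLocallyInjective (Opens.grothendieckTopology X)
      ((PresheafOfModules.toPresheaf _).map (SecTwist.toTensor M N)) := by
    change Presheaf.IsLocallyInjective (Opens.grothendieckTopology X)
      ((PresheafOfModules.toPresheaf _).map ((PresheafOfModules.sheafificationAdjunction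
        (R := X.ringCatSheaf) (𝟙 X.ringCatSheaf.obj)).unit.app _))
    rw [PresheafOfModules.toPresheaf_map_sheafificationAdjunction_unit_app]
    exact ((Opens.grothendieckTopology X).W_toSheafify _).isLocallyInjective
  let t : (CohB1.tensorPre M N).obj (op U) :=
    ∑ j, (show M.val.obj (op U) from η j) ⊗ₜ (show N.val.obj (op U) from w j)
  have hsieve := Presheaf.equalizerSieve_mem (Opens.grothendieckTopology X)
    ((PresheafOfModules.toPresheaf _).map (SecTwist.toTensor M N)) t 0
    (by
      rw [map_zero]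
      show ((SecTwist.toTensor M N).app (op U)).hom (∑ j, _) = 0
      rw [map_sum]
      exact hw)
  obtain ⟨V', k, hk, hxV'⟩ := hsieve x hx
  obtain ⟨V, hV, hxV, hle⟩ := exists_isAffineOpen_mem_and_subset hxV'
  refine ⟨V, hle.trans k.le, hxV, ?_⟩
  have h2 := congrArg ((CohB1.tensorPre M N).presheaf.map (homOfLE hle).op) hk
  simp only [t, map_zero, map_sum] at h2
  have h3 : ∑ j, (show Γ(M, V) from rm M (hle.trans k.le) (η j)) ⊗ₜ[Γ(X, V)]
      (show Γ(N, V) from rm N (hle.trans k.le) (w j)) = 0 := by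
    refine Eq.trans (Finset.sum_congr rfl fun j _ => ?_) h2
    rw [show rm M (hle.trans k.le) (η j) = rm M hle (rm M k.le (η j)) from (H27LogNCD.map_mapM k.le hle _).symm,
      show rm N (hle.trans k.le) (w j) = rm N hle (rm N k.le (w j)) from (H27LogNCD.map_mapM k.le hle _).symm]
    rfl
  let B : Module.Basis (Fin n) Γ(X, V) Γ(M, V) := Module.Basis.ofEquivFun (LinearEquiv.ofBijective
    (Fintype.linearCombination Γ(X, V) fun j => rm M (hle.trans k.le) (η j)) (by
      convert hη V (hle.trans k.le) hV using 1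
      funext c; simp [Fintype.linearCombination_apply])).symm
  have hB : ∀ j, B j = rm M (hle.trans k.le) (η j) := fun j => by
    classical
    simp [B, Fintype.linearCombination_apply, Pi.single_apply, ite_smul]
  have h4 := congrArg ((TensorProduct.lid Γ(X, V) Γ(N, V)).toLinearMap ∘ₗ LinearMap.rTensor Γ(N, V) (B.coord j₀)) h3
  simp only [map_sum, map_zero, LinearMap.coe_comp, Function.comp_apply, LinearMap.rTensor_tmul,
    LinearEquiv.coe_coe, TensorProduct.lid_tmul, ← hB] at h4
  rw [Finset.sum_eq_single j₀ (fun j _ hj => by simp [Module.Basis.coord_apply, hj])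
    (fun h => absurd (Finset.mem_univ _) h)] at h4
  simp only [Module.Basis.coord_apply, Module.Basis.repr_self, Finsupp.single_eq_same, one_smul] at h4
  exact h4.trans (map_zero _).symm

end Groth.Agent.H27KodV
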