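import Groth.Agent.H27KodV.Local
import Groth.Agent.H10Coh.FinType2
import Groth.Agent.H10Coh.QCohOps
import Groth.Agent.H10Coh.Pn.Results
import Groth.Agent.H10Coh.HHSeq
import Groth.Agent.H29Fitt.PullbackQCoh
import Groth.Agent.H27Perf.Tower
import Mathlib

/-!
# `H¹(E) → H¹(F_* F^* E)` is injective when `H⁰(F^*E ⊗ Ω) = 0` on a normal variety
-/

set_option autoImplicit false
set_option linter.style.haveILetI false
set_option backward.isDefEq.respectTransparency false
set_option backward.isDefEq.respectTransparency.types false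

universe u

noncomputable section

open CategoryTheory CategoryTheory.Limits AlgebraicGeometry TopologicalSpace Opposite

namespace Groth.Agent.H27KodV

open Groth.Agent.H27LogTwist

variable {p : ℕ} [Fact p.Prime] {X : Scheme.{u}} [FrobSch.IsCharP X p]

variable (p) in
/-- `F^*E`. -/
abbrev FE (E : X.Modules) : X.Modules := (Scheme.Modules.pullback (FrobSch.frob X p)).obj E

variable (p) in
/-- The unit `E → F_* F^* E`. -/
abbrev unitMap (E : X.Modules) : E ⟶ (Scheme.Modules.pushforward (FrobSch.frob X p)).obj (FE p E) :=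
  (Scheme.Modules.pullbackPushforwardAdjunction (FrobSch.frob X p)).unit.app E

theorem unitMap_app (E : X.Modules) (U : X.Opens) (m : Γ(E, U)) : (unitMap p E).app U m = fr p E U m := rfl

theorem exists_affine_obas {E : X.Modules} (hE : FlatMod.IsFinLocFree E) {W : X.Opens} {x : X} (hx : x ∈ W) :
    ∃ (U : X.Opens) (n : ℕ) (b : Fin n → Γ(E, U)), IsAffineOpen U ∧ x ∈ U ∧ U ≤ W ∧ OBas E U b := by
  obtain ⟨U₀, n, b, hxU₀, hb⟩ := exists_obas hE x
  obtain ⟨U, hU, hxU, hle⟩ := exists_isAffineOpen_mem_and_subset (show x ∈ W ⊓ U₀ from ⟨hx, hxU₀⟩)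
  exact ⟨U, n, _, hU, hxU, fun y hy => (hle hy).1, hb.res fun y hy => (hle hy).2⟩

theorem mono_unitMap [IsReduced X] {E : X.Modules} (hE : FlatMod.IsFinLocFree E) : Mono (unitMap p E) := by
  refine H11Tilde.mono_of_injective _ fun W s hs x hx => ?_
  obtain ⟨U, n, b, hU, hxU, hle, hb⟩ := exists_affine_obas hE hx
  refine ⟨U, hle, hxU, ?_⟩
  obtain ⟨c, hc⟩ := (hb U le_rfl).2 (rm E hle s)
  have h0 : fr p E U (rm E hle s) = 0 := by
    rw [fr_res, show fr p E W s = 0 from hs]
    exact map_zero _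
  rw [← hc, fr_sum] at h0
  have h1 := (bijective_fr_basis E (H8Props.FinLocFree.isQCoh_of_isFinLocFree E hE) hU le_rfl hb).1
    (a₁ := fun j => c j ^ p) (a₂ := 0) (h0.trans (by simp))
  have h2 : c = 0 := funext fun j => IsNilpotent.eq_zero ⟨p, congrFun h1 j⟩
  show rm E hle s = 0
  rw [← hc, h2]
  simp

variable {S : Scheme.{u}} (f : X ⟶ S) [QuasiSeparated f]

/-- `d` as a derivation of the sections over an open. -/
def dD (V : X.Opens) : Derivation ℤ Γ(X, V) Γ(Omega.sheaf f, V) :=
  Derivation.mk' (AddMonoidHom.mk' (OmegaSh.dSect f V) (OmegaSh.dSect_add f V)).toIntLinearMap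
    fun a b => OmegaSh.dSect_mul f V a b

theorem dD_apply (V : X.Opens) (a : Γ(X, V)) : dD f V a = OmegaSh.dSect f V a := rfl

theorem dD_pow_p (V : X.Opens) (c : Γ(X, V)) : dD f V (c ^ p) = 0 := by
  rw [Derivation.leibniz_pow, ← Nat.cast_smul_eq_nsmul Γ(X, V), FrobSch.natCast_eq_zero_app X p V, zero_smul]

theorem dD_res {U V : X.Opens} (h : V ≤ U) (a : Γ(X, U)) :
    dD f V (H27LogNCD.rs h a) = rm (Omega.sheaf f) h (dD f U a) :=
  OmegaSh.dSect_map f h a

/-- `∑ η_j ⊗ d a_j`. -/
def nab (M : X.Modules) {V : X.Opens} {n : ℕ} (η : Fin n → Γ(M, V)) (a : Fin n → Γ(X, V)) :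
    Γ(CohB1.tensorMod M (Omega.sheaf f), V) :=
  ∑ j, H11Ample.tm (η j) (dD f V (a j))

theorem nab_res (M : X.Modules) {U V : X.Opens} (h : V ≤ U) {n : ℕ} (η : Fin n → Γ(M, U)) (a : Fin n → Γ(X, U)) :
    rm _ h (nab f M η a) = nab f M (fun j => rm M h (η j)) fun j => H27LogNCD.rs h (a j) := by
  simp only [nab, rm, map_sum]
  exact Finset.sum_congr rfl fun j _ => by
    rw [H11Ample.tm_res, dD_res]

theorem nab_congr (M : X.Modules) {V : X.Opens} {n m : ℕ} (η : Fin n → Γ(M, V)) (η' : Fin m → Γ(M, V))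
    (c : Fin m → Fin n → Γ(X, V)) (hη : ∀ l, η' l = ∑ j, c l j ^ p • η j)
    (a : Fin n → Γ(X, V)) (a' : Fin m → Γ(X, V)) (e : Fin n → Γ(X, V))
    (ha : ∀ j, a j = (∑ l, a' l * c l j ^ p) + e j ^ p) : nab f M η a = nab f M η' a' := by
  let t : ∀ (j : Fin n), Γ(Omega.sheaf f, V) →+ Γ(CohB1.tensorMod M (Omega.sheaf f), V) := fun j =>
    AddMonoidHom.mk' (H11Ample.tm (η j)) fun w w' => H11Ample.tm_add_right _ w w'
  let t' : ∀ (w : Γ(Omega.sheaf f, V)), Γ(M, V) →+ Γ(CohB1.tensorMod M (Omega.sheaf f), V) := fun w =>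
    AddMonoidHom.mk' (fun m => H11Ample.tm m w) fun m m' => H11Ample.tm_add_left m m' w
  have h1 : ∀ j, dD f V (a j) = ∑ l, c l j ^ p • dD f V (a' l) := fun j => by
    rw [ha, map_add, dD_pow_p, add_zero, map_sum]
    exact Finset.sum_congr rfl fun l _ => by rw [Derivation.leibniz, dD_pow_p, smul_zero, zero_add]
  calc nab f M η a = ∑ j, ∑ l, c l j ^ p • H11Ample.tm (η j) (dD f V (a' l)) :=
        Finset.sum_congr rfl fun j _ => by
          rw [show H11Ample.tm (η j) (dD f V (a j)) = t j (dD f V (a j)) from rfl, h1, map_sum]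
          exact Finset.sum_congr rfl fun l _ => H11Ample.tm_smul_right _ _ _
    _ = ∑ l, ∑ j, c l j ^ p • H11Ample.tm (η j) (dD f V (a' l)) := Finset.sum_comm
    _ = nab f M η' a' := Finset.sum_congr rfl fun l _ => by
          rw [show H11Ample.tm (η' l) (dD f V (a' l)) = t' _ (η' l) from rfl, hη, map_sum]
          exact Finset.sum_congr rfl fun j _ => (H11Ample.tm_smul_left _ _ _).symm

section Global

variable [IsIntegral X] (hN : ∀ x : X, IsIntegrallyClosed (X.presheaf.stalk x))
  [IsAffine S] (hroot : ∀ c : Γ(S, ⊤), ∃ c', c' ^ p = c)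
  {E : X.Modules} (hE : FlatMod.IsFinLocFree E)

include hN hroot hE in
/-- The cokernel of the unit has no global sections. -/
theorem cokernel_global_eq_zero (h0 : Subsingleton Γ(CohB1.tensorMod (FE p E) (Omega.sheaf f), ⊤))
    (c : Γ(cokernel (unitMap p E), ⊤)) : c = 0 := by
  classical
  have hEq : E.IsQuasicoherent := H8Props.FinLocFree.isQCoh_of_isFinLocFree E hE
  haveI : (FE p E).IsQuasicoherent := H29Fitt.isQCoh_pullback _ _ hEq
  haveI : IsAffineHom (FrobSch.frob X p) := ⟨fun _ hU => hU⟩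
  haveI := H10Coh.isQuasicoherent_pushforward_of_isAffineHom (FrobSch.frob X p) (FE p E)
  haveI := hEq
  haveI : (cokernel (unitMap p E)).IsQuasicoherent := H10Coh.isQuasicoherent_cokernel _
  haveI := mono_unitMap (p := p) hE
  let Sq : ShortComplex X.Modules := ShortComplex.mk (unitMap p E) (cokernel.π _) (cokernel.condition _)
  have hS : Sq.ShortExact := ShortComplex.ShortExact.mk' (ShortComplex.exact_cokernel _)
    (mono_unitMap hE) inferInstance
  have hch := fun x : X => exists_affine_obas hE (show x ∈ (⊤ : X.Opens) from trivial)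
  choose U n b hU hxU _ hb using hch
  have hlift := fun x : X => H10Coh.surjective_app_of_epi (cokernel.π (unitMap p E)) (hU x)
    (rm _ (le_top : U x ≤ ⊤) c)
  choose s hs using hlift
  have hcoord := fun x : X => (bijective_fr_basis (p := p) E hEq (hU x) (le_refl (U x)) (hb x)).2 (s x)
  choose a ha using hcoord
  let ω : ∀ x, Γ(CohB1.tensorMod (FE p E) (Omega.sheaf f), U x) := fun x =>
    nab f (FE p E) (fun j => fr p E (U x) (rm E le_rfl (b x j))) (a x)
  have hcompat : ∀ x y, rm _ (inf_le_left : U x ⊓ U y ≤ U x) (ω x) = rm _ inf_le_right (ω y) := by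
    intro x y
    refine H11Tilde.eq_of_locally _ _ fun z hz => ?_
    obtain ⟨V, hV, hzV, hle⟩ := exists_isAffineOpen_mem_and_subset hz
    refine ⟨V, hle, hzV, ?_⟩
    have hx' : V ≤ U x := fun t ht => (hle ht).1
    have hy' : V ≤ U y := fun t ht => (hle ht).2
    rw [H27LogNCD.map_mapM, H27LogNCD.map_mapM]
    have hcl := fun l => (hb x V hx').2 (rm E hy' (b y l))
    choose cm hcm using hcl
    have hd : (cokernel.π (unitMap p E)).app V (rm _ hx' (s x) - rm _ hy' (s y)) = 0 := by
      rw [map_sub, H11Tilde.app_map_apply, H11Tilde.app_map_apply, hs, hs, rm, rm,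
        H27LogNCD.map_mapM, H27LogNCD.map_mapM, sub_self]
    obtain ⟨e, he⟩ := H10Coh.exists_app_eq_of_exact hS V _ hd
    obtain ⟨ec, rfl⟩ := (hb x V hx').2 e
    change rm _ hx' (ω x) = rm _ hy' (ω y)
    simp only [ω, nab_res, ← fr_res]
    have hη : ∀ l, fr p E V (rm E hy' (rm E le_rfl (b y l))) =
        ∑ j, cm l j ^ p • fr p E V (rm E hx' (rm E le_rfl (b x j))) := fun l => by
      simp only [rm, H10Coh.mres_self]
      rw [← fr_sum]
      exact congrArg _ (hcm l).symm
    refine nab_congr (p := p) f _ _ _ cm hη _ _ ec fun j => ?_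
    refine congrFun ((bijective_fr_basis (p := p) E hEq hV hx' (hb x)).1
      (a₁ := fun j => H27LogNCD.rs hx' (a x j))
      (a₂ := fun j => (∑ l, H27LogNCD.rs hy' (a y l) * cm l j ^ p) + ec j ^ p) ?_) j
    have hsx : ∑ j, H27LogNCD.rs hx' (a x j) • fr p E V (rm E hx' (b x j)) = rm (FE p E) hx' (s x) := by
      rw [← ha x]
      simp only [rm, map_sum, Scheme.Modules.map_smul]
      exact Finset.sum_congr rfl fun j _ => congrArg _ (by simpa only [rm, H10Coh.mres_self] using fr_res (p := p) E _ _)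
    have hsy : ∑ l, H27LogNCD.rs hy' (a y l) • fr p E V (rm E hy' (b y l)) = rm (FE p E) hy' (s y) := by
      rw [← ha y]
      simp only [rm, map_sum, Scheme.Modules.map_smul]
      exact Finset.sum_congr rfl fun j _ => congrArg _ (by simpa only [rm, H10Coh.mres_self] using fr_res (p := p) E _ _)
    have he' : ∑ j, ec j ^ p • fr p E V (rm E hx' (b x j)) = rm (FE p E) hx' (s x) - rm (FE p E) hy' (s y) := by
      rw [← fr_sum]; exact he
    beta_reduce
    rw [hsx, Finset.sum_congr rfl fun j _ => add_smul _ _ _, Finset.sum_add_distrib, he',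
      Finset.sum_congr rfl fun j _ => Finset.sum_smul, Finset.sum_comm,
      show (∑ l, ∑ j, (H27LogNCD.rs hy' (a y l) * cm l j ^ p) • fr p E V (rm E hx' (b x j))) =
        ∑ l, H27LogNCD.rs hy' (a y l) • fr p E V (rm E hy' (b y l)) from Finset.sum_congr rfl fun l _ => by
          rw [← hcm l, fr_sum, Finset.smul_sum]
          exact Finset.sum_congr rfl fun j _ => mul_smul _ _ _,
      hsy]
    abel
  obtain ⟨Ω₀, hΩ₀, -⟩ := TopCat.Sheaf.existsUnique_gluing'
    ⟨(CohB1.tensorMod (FE p E) (Omega.sheaf f)).presheaf, (CohB1.tensorMod (FE p E) (Omega.sheaf f)).isSheaf⟩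
    U ⊤ (fun x => homOfLE le_top) (fun y _ => Opens.mem_iSup.2 ⟨y, hxU y⟩) ω fun x y => hcompat x y
  have hω : ∀ x, ω x = 0 := fun x => by
    rw [← hΩ₀ x, h0.elim Ω₀ 0]
    exact map_zero _
  refine H11Tilde.eq_of_locally _ _ fun x _ => ⟨U x, le_top, hxU x, ?_⟩
  refine Eq.trans ?_ (map_zero _).symm
  have hw := eq_zero_of_sum_tm (FE p E) (Omega.sheaf f) (fun j => fr p E (U x) (rm E le_rfl (b x j)))
    (fun V h hV => by
      convert bijective_fr_basis (p := p) E hEq hV h (hb x) using 1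
      funext c
      exact Finset.sum_congr rfl fun j _ => by simp only [rm, H10Coh.mres_self]; exact congrArg _ (fr_res E h (b x j)).symm)
    (fun j => dD f (U x) (a x j)) (hω x)
  have hroot' := fun j => exists_pow_eq_of_dSect_eq_zero p f hN (isAffineOpen_top S) hroot (hU x) ⟨x, hxU x⟩
    (le_top : U x ≤ f ⁻¹ᵁ ⊤) (a x j) (hw j)
  choose e he using hroot'
  show rm _ (le_top : U x ≤ ⊤) c = 0
  rw [← hs x, ← ha x]
  have : ∑ j, a x j • fr p E (U x) (rm E le_rfl (b x j)) = (unitMap p E).app (U x) (∑ j, e j • rm E le_rfl (b x j)) := by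
    rw [unitMap_app, fr_sum]
    exact Finset.sum_congr rfl fun j _ => by rw [he]
  beta_reduce
  rw [this, ← ConcreteCategory.comp_apply, ← Scheme.Modules.Hom.comp_app, cokernel.condition]
  rfl

include hN hroot hE in
/-- `H¹(E) → H¹(F_* F^* E)` is injective. -/
theorem injective_H1 (h0 : Subsingleton (Coh.HH X (CohB1.tensorMod (FE p E) (Omega.sheaf f)) 0)) :
    Function.Injective (LeadFF.Hm (unitMap p E) 1) := by
  haveI := mono_unitMap (p := p) hE
  let Sq : ShortComplex X.Modules := ShortComplex.mk (unitMap p E) (cokernel.π _) (cokernel.condition _)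
  have hS : Sq.ShortExact := ShortComplex.ShortExact.mk' (ShortComplex.exact_cokernel _)
    (mono_unitMap hE) inferInstance
  haveI : Subsingleton (Coh.HH X (cokernel (unitMap p E)) 0) :=
    (H10Coh.HH0Equiv _).toEquiv.subsingleton_congr.2 (subsingleton_of_forall_eq 0
      (cokernel_global_eq_zero f hN hroot hE ((H10Coh.HH0Equiv _).toEquiv.subsingleton_congr.1 h0)))
  refine (injective_iff_map_eq_zero _).2 fun x hx => ?_
  obtain ⟨y, rfl⟩ := H10Coh.HHSeq.exists_dl hS 0 x hx
  rw [Subsingleton.elim y 0]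
  exact map_zero _

end Global

end Groth.Agent.H27KodV
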